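import Groth.Agent.AlgEqCyc.K824.Closed
import Mathlib.AlgebraicGeometry.AlgClosed.Basic

/-!
# Chains of smooth projective curves
-/

set_option autoImplicit false
universe u

open AlgebraicGeometry CategoryTheory CategoryTheory.Limits

namespace K824.AlgEqElem

variable {k : Type u} [Field k]

/-- A rational point with support in a closed subscheme factors through it. -/
theorem exists_lift {X C : Scheme.{u}} (i : C ⟶ X) [IsClosedImmersion i]
    (P : Spec (CommRingCat.of k) ⟶ X) (hP : P (IsLocalRing.closedPoint k) ∈ Set.range i) :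
    ∃ P' : Spec (CommRingCat.of k) ⟶ C, P' ≫ i = P := by
  have hsub : Subsingleton ↥(Spec (CommRingCat.of k)) :=
    inferInstanceAs (Subsingleton (PrimeSpectrum k))
  have hs : Surjective (pullback.snd i P) := by
    refine ⟨fun z => ?_⟩
    obtain ⟨c, hc⟩ := hP
    obtain ⟨w, -, hw⟩ := Scheme.Pullback.exists_preimage_pullback (f := i) (g := P) c z
      (by rw [hc, Subsingleton.elim z (IsLocalRing.closedPoint k)])
    exact ⟨w, hw⟩
  have : IsIso (pullback.snd i P) := isIso_of_isClosedImmersion_of_surjective _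
  refine ⟨inv (pullback.snd i P) ≫ pullback.fst i P, ?_⟩
  rw [Category.assoc, pullback.condition, IsIso.inv_hom_id_assoc]

/-- Two closed curves with a common point have a common rational point. -/
theorem exists_common_point [IsAlgClosed k] {X C D : Scheme.{u}} {p : X ⟶ Spec (CommRingCat.of k)}
    {q : C ⟶ Spec (CommRingCat.of k)} {r : D ⟶ Spec (CommRingCat.of k)} [IsProper q]
    (i : C ⟶ X) [IsClosedImmersion i] (j : D ⟶ X) [IsClosedImmersion j] (hi : i ≫ p = q)
    (hj : j ≫ p = r) (h : (Set.range i ∩ Set.range j).Nonempty) :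
    ∃ (R : Spec (CommRingCat.of k) ⟶ C) (R' : Spec (CommRingCat.of k) ⟶ D),
      R ≫ i = R' ≫ j ∧ R ≫ q = 𝟙 _ ∧ R' ≫ r = 𝟙 _ := by
  obtain ⟨x, ⟨c, hc⟩, ⟨d, hd⟩⟩ := h
  obtain ⟨z, -, -⟩ := Scheme.Pullback.exists_preimage_pullback (f := i) (g := j) c d
    (by rw [hc, hd])
  have hne : Nonempty ↥(pullback i j) := ⟨z⟩
  let f : pullback i j ⟶ Spec (CommRingCat.of k) := pullback.fst i j ≫ q
  have hf : IsProper f := inferInstance
  have hcpt : CompactSpace ↥(pullback i j) := by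
    have : QuasiCompact f := inferInstance
    exact QuasiCompact.compactSpace_of_compactSpace f
  obtain ⟨y, -, hy⟩ := (isClosed_univ (X := ↥(pullback i j))).exists_closed_singleton
    Set.univ_nonempty
  let R₀ := pointOfClosedPoint f y hy
  have hR₀ : R₀ ≫ f = 𝟙 _ := pointOfClosedPoint_comp f y hy
  refine ⟨R₀ ≫ pullback.fst i j, R₀ ≫ pullback.snd i j, ?_, ?_, ?_⟩
  · rw [Category.assoc, Category.assoc, pullback.condition]
  · rw [Category.assoc]; exact hR₀
  · rw [Category.assoc, ← hj, ← pullback.condition_assoc, hi]; exact hR₀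

theorem isAlgEquiv_of_connected [IsAlgClosed k] (X : Scheme.{u}) [DecidableEq ↥X]
    (p : X ⟶ Spec (CommRingCat.of k)) (n : ℕ)
    (C : Fin n → Scheme.{u}) (q : (i : Fin n) → (C i ⟶ Spec (CommRingCat.of k)))
    (ι : (i : Fin n) → (C i ⟶ X)) (hι : ∀ i, IsClosedImmersion (ι i)) (hq : ∀ i, ι i ≫ p = q i)
    (hs : ∀ i, Smooth (q i)) (hpr : ∀ i, Neron.IsProjectiveOver k (Over.mk (q i)))
    (hint : ∀ i, IsIntegral (C i)) (hd : ∀ i, topologicalKrullDim ↥(C i) = 1)
    (hconn : _root_.IsConnected (⋃ i, Set.range ⇑(ι i)))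
    (P Q : Spec (CommRingCat.of k) ⟶ X) (hP : P ≫ p = 𝟙 _) (hQ : Q ≫ p = 𝟙 _)
    (hPC : P (IsLocalRing.closedPoint k) ∈ ⋃ i, Set.range ⇑(ι i))
    (hQC : Q (IsLocalRing.closedPoint k) ∈ ⋃ i, Set.range ⇑(ι i)) :
    AlgEqCyc.IsAlgEquiv p
      (Function.locallyFinsuppWithin.single (P (IsLocalRing.closedPoint k)) (1 : ℤ))
      (Function.locallyFinsuppWithin.single (Q (IsLocalRing.closedPoint k)) (1 : ℤ)) := by
  have hprop : ∀ i, IsProper (q i) := fun i => isProper_of_isProjectiveOver (hpr i)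
  -- two rational points on the same curve
  have key : ∀ (i : Fin n) (R R' : Spec (CommRingCat.of k) ⟶ C i), R ≫ q i = 𝟙 _ →
      R' ≫ q i = 𝟙 _ →
      Function.locallyFinsuppWithin.single ((ι i) (R (IsLocalRing.closedPoint k))) (1 : ℤ) -
        Function.locallyFinsuppWithin.single ((ι i) (R' (IsLocalRing.closedPoint k))) (1 : ℤ) ∈
        AlgEqCyc.algTriv p := by
    intro i R R' hR hR'
    have := hι i
    exact AddSubgroup.subset_closure (isElemAlgTriv (hs i) (hpr i) (hint i) (hd i) (ι i) (hq i)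
      (isClosed_range_gr_of_isClosedImmersion (ι i) (hq i)) R R' hR hR' _ _ rfl rfl)
  let G : Fin n → Prop := fun i => ∀ R : Spec (CommRingCat.of k) ⟶ C i, R ≫ q i = 𝟙 _ →
    Function.locallyFinsuppWithin.single (P (IsLocalRing.closedPoint k)) (1 : ℤ) -
        Function.locallyFinsuppWithin.single ((ι i) (R (IsLocalRing.closedPoint k))) (1 : ℤ) ∈
        AlgEqCyc.algTriv p
  have hstep : ∀ i j, G i → (Set.range (ι i) ∩ Set.range (ι j)).Nonempty → G j := by
    intro i j hi hne R hR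
    have := hι i
    have := hι j
    have := hprop i
    obtain ⟨R₁, R₂, h12, h1, h2⟩ := exists_common_point (ι i) (ι j) (hq i) (hq j) hne
    have e1 := hi R₁ h1
    have e2 := key j R₂ R h2 hR
    have e3 : (ι i) (R₁ (IsLocalRing.closedPoint k)) = (ι j) (R₂ (IsLocalRing.closedPoint k)) :=
      congr($h12 (IsLocalRing.closedPoint k))
    rw [e3] at e1
    have e4 := (AlgEqCyc.algTriv p).add_mem e1 e2
    rwa [sub_add_sub_cancel] at e4
  have hclosed : ∀ i, IsClosed (Set.range (ι i)) := fun i => by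
    have := hι i
    exact (ι i).isClosedEmbedding.isClosed_range
  have hall : ∀ i, G i := by
    classical
    by_contra hcon
    push Not at hcon
    obtain ⟨j₀, hj₀⟩ := hcon
    obtain ⟨i₀, hi₀⟩ := Set.mem_iUnion.1 hPC
    have hGi₀ : G i₀ := by
      have := hι i₀
      obtain ⟨P', hP'⟩ := exists_lift (ι i₀) P hi₀
      intro R hR
      have h1 := key i₀ P' R (by rw [← hq i₀, ← Category.assoc, hP', hP]) hR
      have h2 : (ι i₀) (P' (IsLocalRing.closedPoint k)) = P (IsLocalRing.closedPoint k) :=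
        congr($hP' (IsLocalRing.closedPoint k))
      rwa [h2] at h1
    let T : Set X := ⋃ i : {i // G i}, Set.range (ι i.1)
    let T' : Set X := ⋃ i : {i // ¬ G i}, Set.range (ι i.1)
    have hT : IsClosed T := isClosed_iUnion_of_finite fun i => hclosed i.1
    have hT' : IsClosed T' := isClosed_iUnion_of_finite fun i => hclosed i.1
    have h1 := isPreconnected_closed_iff.1 hconn.isPreconnected T T' hT hT' (by
      intro x hx
      obtain ⟨i, hi⟩ := Set.mem_iUnion.1 hx
      by_cases hG : G i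
      · left; exact Set.mem_iUnion.2 ⟨⟨i, hG⟩, hi⟩
      · right; exact Set.mem_iUnion.2 ⟨⟨i, hG⟩, hi⟩)
      ⟨_, hPC, Set.mem_iUnion.2 ⟨⟨i₀, hGi₀⟩, hi₀⟩⟩ (by
        have := hint j₀
        let c : C j₀ := genericPoint (C j₀)
        exact ⟨ι j₀ c, Set.mem_iUnion.2 ⟨j₀, ⟨c, rfl⟩⟩, Set.mem_iUnion.2 ⟨⟨j₀, hj₀⟩, ⟨c, rfl⟩⟩⟩)
    obtain ⟨x, -, hxT, hxT'⟩ := h1
    obtain ⟨⟨i, hi⟩, hxi⟩ := Set.mem_iUnion.1 hxT
    obtain ⟨⟨j, hj⟩, hxj⟩ := Set.mem_iUnion.1 hxT'
    exact hj (hstep i j hi ⟨x, hxi, hxj⟩)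
  obtain ⟨j, hj⟩ := Set.mem_iUnion.1 hQC
  have := hι j
  obtain ⟨Q', hQ'⟩ := exists_lift (ι j) Q hj
  have h3 := hall j Q' (by rw [← hq j, ← Category.assoc, hQ', hQ])
  have h4 : (ι j) (Q' (IsLocalRing.closedPoint k)) = Q (IsLocalRing.closedPoint k) :=
    congr($hQ' (IsLocalRing.closedPoint k))
  rw [h4] at h3
  exact h3

end K824.AlgEqElem
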