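import Groth.Agent.AlgEqCyc.K824.Elem
import Groth.Agent.Dix.ProjProper

/-!
# Closedness of graphs and the case of a closed curve
-/

set_option autoImplicit false
universe u

open AlgebraicGeometry CategoryTheory CategoryTheory.Limits

namespace K824.AlgEqElem

variable {k : Type u} [Field k] {X C : Scheme.{u}} {p : X ⟶ Spec (CommRingCat.of k)}
  {q : C ⟶ Spec (CommRingCat.of k)}

theorem isProper_of_isProjectiveOver (hp : Neron.IsProjectiveOver k (Over.mk q)) : IsProper q := by
  obtain ⟨n, i, hi, hiq⟩ := hp
  have h1 : IsProper (CohB1.ProjSpaceOver.toBase n (Spec (CommRingCat.of k))) :=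
    Groth.Agent.Dix.ProjProper.isProper_toBase n _
  have h2 : i ≫ CohB1.ProjSpaceOver.toBase n (Spec (CommRingCat.of k)) = q := hiq
  rw [← h2]
  infer_instance

theorem isClosed_range_gr_of_isSeparated [IsSeparated p] (ν : C ⟶ X) (hν : ν ≫ p = q) :
    IsClosed (Set.range (gr p q ν hν)) := by
  have h1 : IsClosedImmersion (gr p q ν hν ≫ pullback.snd p q) := by
    rw [gr_snd]; infer_instance
  have h2 : IsClosedImmersion (gr p q ν hν) :=
    IsClosedImmersion.of_comp (gr p q ν hν) (pullback.snd p q)
  exact (gr p q ν hν).isClosedEmbedding.isClosed_range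

theorem isClosed_range_gr_of_isClosedImmersion [IsSeparated q] (ν : C ⟶ X) [IsClosedImmersion ν]
    (hν : ν ≫ p = q) : IsClosed (Set.range (gr p q ν hν)) := by
  let m : pullback q q ⟶ pullback p q :=
    pullback.lift (pullback.fst q q ≫ ν) (pullback.snd q q) (by
      rw [Category.assoc, hν]; exact pullback.condition)
  have hsq : IsPullback (pullback.fst q q) m ν (pullback.fst p q) := by
    have h0 : IsPullback (pullback.fst p q) (pullback.snd p q) p q := IsPullback.of_hasPullback _ _
    have h1 : IsPullback (pullback.fst q q) (m ≫ pullback.snd p q) (ν ≫ p) q := by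
      rw [hν, show m ≫ pullback.snd p q = pullback.snd q q from pullback.lift_snd _ _ _]
      exact IsPullback.of_hasPullback _ _
    exact IsPullback.of_bot h1 (pullback.lift_fst _ _ _).symm h0
  have hm : IsClosedImmersion m := MorphismProperty.of_isPullback hsq inferInstance
  have h2 : gr p q ν hν = gr q q (𝟙 C) (Category.id_comp _) ≫ m := by
    apply pullback.hom_ext
    · rw [gr_fst, Category.assoc, show m ≫ pullback.fst p q = pullback.fst q q ≫ ν from
        pullback.lift_fst _ _ _, ← Category.assoc, gr_fst, Category.id_comp]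
    · rw [gr_snd, Category.assoc, show m ≫ pullback.snd p q = pullback.snd q q from
        pullback.lift_snd _ _ _, gr_snd]
  have h3 : Set.range (gr p q ν hν) = m '' Set.range (gr q q (𝟙 C) (Category.id_comp _)) := by
    rw [h2, ← Set.range_comp]
    rfl
  rw [h3]
  exact m.isClosedEmbedding.isClosedMap _ (isClosed_range_gr_of_isSeparated _ _)

end K824.AlgEqElem
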