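import Groth.Agent.AlgEqCyc.K824.Closed
import Groth.Agent.Pi1.H419.HypConn
import Groth.Agent.Pi1.H386.ProperInduction
import Groth.Agent.CalgB.ProjField
import Groth.Agent.Gaga.H565.CurveOfDomain
import Groth.Agent.AlgEqCyc.K824.DegZero
import Groth.Agent.An.K824.TopChain

/-!
# Any two closed points of a connected projective scheme are algebraically equivalent
-/

set_option autoImplicit false
universe u

open AlgebraicGeometry CategoryTheory CategoryTheory.Limits TopologicalSpace

namespace K824.AlgConn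

open Groth.Agent

/-- Algebraic equivalence of two points. -/
def Rel {k : Type u} [Field k] {X : Scheme.{u}} [DecidableEq ↥X]
    (p : X ⟶ Spec (CommRingCat.of k)) (x y : X) : Prop :=
  (Function.locallyFinsuppWithin.single x (1 : ℤ) -
    Function.locallyFinsuppWithin.single y (1 : ℤ) : AlgebraicCycle X ℤ) ∈ AlgEqCyc.algTriv p

section Rel

variable {k : Type u} [Field k] {X : Scheme.{u}} [DecidableEq ↥X]
    {p : X ⟶ Spec (CommRingCat.of k)}

theorem Rel.refl (x : X) : Rel p x x := by
  unfold Rel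
  rw [sub_self]
  exact AddSubgroup.zero_mem _

theorem Rel.symm {x y : X} (h : Rel p x y) : Rel p y x := by
  unfold Rel
  rw [← neg_sub]
  exact AddSubgroup.neg_mem _ h

theorem Rel.trans {x y z : X} (h : Rel p x y) (h' : Rel p y z) : Rel p x z := by
  have := AddSubgroup.add_mem _ h h'
  rw [sub_add_sub_cancel] at this
  exact this

end Rel

variable (k : Type u) [Field k]

theorem isProjectiveOver_of_isAmple {C : Scheme.{u}} (q : C ⟶ Spec (CommRingCat.of k)) [IsProper q]
    (hA : ∃ A : C.Modules, CohB1.IsAmple A) : Neron.IsProjectiveOver k (Over.mk q) := by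
  obtain ⟨n, i, hi, hiq⟩ := (CalgB.ProjImm.closedImmersion_iff
    (CalgB.ProjField.exists_isAmple_of_isAffine _) q).2 ⟨inferInstance, hA⟩
  exact ⟨n, i, hi, hiq⟩

/-- The case of curves. -/
theorem rel_of_dim_le_one [IsAlgClosed k] {X Z : Scheme.{u}} [DecidableEq ↥X]
    (p : X ⟶ Spec (CommRingCat.of k)) [IsSeparated p] (q : Z ⟶ Spec (CommRingCat.of k)) [IsProper q]
    [IsIntegral Z] (hZ : Pi1.IsNormalScheme Z) (hA : ∃ A : Z.Modules, CohB1.IsAmple A)
    (hdim : topologicalKrullDim Z ≤ 1) (h : Z ⟶ X) (hh : h ≫ p = q) (z₁ z₂ : Z)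
    (h₁ : IsClosed ({z₁} : Set Z)) (h₂ : IsClosed ({z₂} : Set Z)) : Rel p (h z₁) (h z₂) := by
  by_cases hη : IsClosed ({genericPoint Z} : Set Z)
  · have hall : ∀ z : Z, z = genericPoint Z := by
      intro z
      have h3 := genericPoint_specializes z
      rw [specializes_iff_mem_closure, hη.closure_eq] at h3
      exact h3
    rw [hall z₁, hall z₂]
    exact Rel.refl _
  · let _ : Z.Over (Spec (CommRingCat.of k)) := ⟨q⟩
    have hq : IsProper (Z ↘ Spec (CommRingCat.of k)) := ‹IsProper q›
    have h1 := Pi1.H386.LefStep.one_le_dim_closure hη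
    have hd1 : topologicalKrullDim Z = 1 := by
      refine le_antisymm hdim (h1.trans (le_of_eq ?_))
      rw [genericPoint_closure]
      exact IsHomeomorph.topologicalKrullDim_eq _ (Homeomorph.Set.univ Z).isHomeomorph
    have hd2 : ∀ x : Z, IsClosed ({x} : Set Z) → ringKrullDim (Z.presheaf.stalk x) = 1 := by
      intro x hx
      have hloc := VarietyB.DimSch.localDim_eq k x
      rw [VarietyB.DimSch.localDim_eq_of_irreducible k x, ← VarietyB.DimSch.topologicalKrullDim_eq_trd k,
        VarietyB.DimSch.trd_eq_zero_of_isClosed k hx, Nat.cast_zero, add_zero, hd1] at hloc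
      exact hloc.symm
    have hsm := Gaga.H565.CurveOfDomain.smoothOfRelativeDimension_one k Z hZ hd2
    have hs : Smooth q := SmoothOfRelativeDimension.smooth 1 (Z ↘ Spec (CommRingCat.of k))
    exact AddSubgroup.subset_closure (AlgEqElem.isElemAlgTriv hs (isProjectiveOver_of_isAmple k q hA)
      inferInstance hd1 h hh (AlgEqElem.isClosed_range_gr_of_isSeparated h hh)
      (pointOfClosedPoint q z₁ h₁) (pointOfClosedPoint q z₂ h₂) (pointOfClosedPoint_comp q z₁ h₁)
      (pointOfClosedPoint_comp q z₂ h₂) _ _ (congrArg h (pointOfClosedPoint_apply q z₁ h₁ _))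
      (congrArg h (pointOfClosedPoint_apply q z₂ h₂ _)))

/-- On a normal projective variety of dimension at least two, any proper closed subset is contained in a
connected closed subscheme of smaller dimension. -/
theorem exists_section_through {X : Scheme.{u}} (pX : X ⟶ Spec (CommRingCat.of k)) [IsProper pX]
    [IsIntegral X] (hX : Pi1.IsNormalScheme X) (hdim : 2 ≤ topologicalKrullDim X) {A : X.Modules}
    (hA : CohB1.IsAmple A) (n : ℕ) (hn : topologicalKrullDim X ≤ (n : WithBot ℕ∞)) (F : Set X)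
    (hF : IsClosed F) (hηF : genericPoint X ∉ F) :
    ∃ (Y : Scheme.{u}) (i : Y ⟶ X) (_ : IsClosedImmersion i), ConnectedSpace Y ∧
      topologicalKrullDim Y < (n : WithBot ℕ∞) ∧ F ⊆ Set.range i := by
  obtain ⟨m, s, hgen, hle, -⟩ := Fdesc.LocGen.IsAmple.exists_genLocus_le hA
    (W := (⟨Fᶜ, hF.isOpen_compl⟩ : X.Opens)) (x := genericPoint X) hηF
  have hL : CohB1.IsAmple (CohB1.tensorPow A (m + 1)) :=
    Divis.NormAmple.isAmple_tensorPow hA (Nat.succ_pos m)
  have hconn := Pi1.H419.HypConn.isConnected_compl_genLocus pX hX hdim hL s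
  let C : Closeds X := ⟨(CohB1.genLocus _ s : Set X)ᶜ, (CohB1.genLocus _ s).isOpen.isClosed_compl⟩
  let I := Scheme.IdealSheafData.vanishingIdeal C
  have hrange : Set.range I.subschemeι = (CohB1.genLocus _ s : Set X)ᶜ := by
    rw [Scheme.IdealSheafData.range_subschemeι, Scheme.IdealSheafData.coe_support_vanishingIdeal]
    rfl
  have hconnY : ConnectedSpace I.subscheme := by
    have e : I.subscheme ≃ₜ Set.range I.subschemeι :=
      I.subschemeι.isClosedEmbedding.isEmbedding.toHomeomorph
    have h1 : ConnectedSpace (Set.range I.subschemeι) := by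
      rw [hrange]
      exact isConnected_iff_connectedSpace.mp hconn
    exact e.symm.surjective.connectedSpace e.symm.continuous
  refine ⟨I.subscheme, I.subschemeι, inferInstance, hconnY, ?_, ?_⟩
  · refine Flat2B.DimFibre.topologicalKrullDim_lt n hn I.subschemeι I.subschemeι.isClosedEmbedding
      (genericPoint X) (fun y => genericPoint_specializes _) (fun y hy => ?_)
    have h1 : genericPoint X ∈ Set.range I.subschemeι := ⟨y, hy⟩
    rw [hrange] at h1
    exact h1 hgen
  · rw [hrange]
    intro x hx hx'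
    exact hle hx' hx

/-- closed points lift to closed points along morphisms from compact schemes -/
theorem exists_closed_lift {W Y : Scheme.{u}} [CompactSpace W] (g : W ⟶ Y) (y : Y)
    (hy : IsClosed ({y} : Set Y)) (hr : y ∈ Set.range g) : ∃ w : W, IsClosed ({w} : Set W) ∧ g w = y := by
  obtain ⟨w₀, hw₀⟩ := hr
  obtain ⟨w, hw, hwc⟩ := (hy.preimage g.continuous).exists_closed_singleton ⟨w₀, hw₀⟩
  exact ⟨w, hwc, hw⟩

theorem rel_of_cover [IsAlgClosed k] {X Y : Scheme.{u}} [DecidableEq ↥X]
    (p : X ⟶ Spec (CommRingCat.of k)) (r : Y ⟶ Spec (CommRingCat.of k)) [IsProper r]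
    [ConnectedSpace Y] (f : Y ⟶ X) (m : ℕ) (W : Fin m → Scheme.{u}) (g : ∀ i, W i ⟶ Y)
    [∀ i, IsProper (g i)] (hcov : ∀ y : Y, ∃ i, y ∈ Set.range (g i))
    (h : ∀ i, ∀ w₁ w₂ : W i, IsClosed ({w₁} : Set (W i)) → IsClosed ({w₂} : Set (W i)) →
      Rel p (f (g i w₁)) (f (g i w₂)))
    (y₁ y₂ : Y) (h₁ : IsClosed ({y₁} : Set Y)) (h₂ : IsClosed ({y₂} : Set Y)) :
    Rel p (f y₁) (f y₂) := by
  have hY : CompactSpace Y := QuasiCompact.compactSpace_of_compactSpace r
  have hW : ∀ i, CompactSpace (W i) := fun i => QuasiCompact.compactSpace_of_compactSpace (g i)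
  refine TopChain.chain (fun i => Set.range (g i)) (fun i => (g i).isClosedMap.isClosed_range) hcov
    (fun x y => Rel p (f x) (f y)) (fun _ _ _ => Rel.trans) ?_ y₁ y₂ h₁ h₂
  intro i x hx y hy hxc hyc
  obtain ⟨w₁, hw₁, rfl⟩ := exists_closed_lift (g i) x hxc hx
  obtain ⟨w₂, hw₂, rfl⟩ := exists_closed_lift (g i) y hyc hy
  exact h i w₁ w₂ hw₁ hw₂

theorem rel_of_normal [IsAlgClosed k] {X : Scheme.{u}} [DecidableEq ↥X]
    (p : X ⟶ Spec (CommRingCat.of k)) [IsSeparated p] (n : ℕ) :
    ∀ {Z : Scheme.{u}} (q : Z ⟶ Spec (CommRingCat.of k)) [IsProper q] [IsIntegral Z]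
      (_ : Pi1.IsNormalScheme Z) (_ : ∃ A : Z.Modules, CohB1.IsAmple A)
      (_ : topologicalKrullDim Z ≤ (n : WithBot ℕ∞)) (h : Z ⟶ X) (_ : h ≫ p = q) (z₁ z₂ : Z)
      (_ : IsClosed ({z₁} : Set Z)) (_ : IsClosed ({z₂} : Set Z)), Rel p (h z₁) (h z₂) := by
  induction n with
  | zero =>
    intro Z q _ _ hZ hA hd h hh z₁ z₂ h₁ h₂
    exact rel_of_dim_le_one k p q hZ hA (hd.trans (by norm_num)) h hh z₁ z₂ h₁ h₂
  | succ n ih =>
    intro Z q _ _ hZ hA hd h hh z₁ z₂ h₁ h₂
    by_cases h2 : topologicalKrullDim Z ≤ 1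
    · exact rel_of_dim_le_one k p q hZ hA h2 h hh z₁ z₂ h₁ h₂
    have h2' : 2 ≤ topologicalKrullDim Z := by
      by_contra hcon
      rw [not_le] at hcon
      apply h2
      have h3 : topologicalKrullDim Z ≤ ((1 : ℕ) : WithBot ℕ∞) := by
        rw [← ENat.WithBot.lt_add_one_iff]
        refine lt_of_lt_of_le hcon (le_of_eq ?_)
        norm_num
      exact h3
    obtain ⟨A, hA⟩ := hA
    have hη : ¬ IsClosed ({genericPoint Z} : Set Z) := by
      intro hη
      have hall : ∀ z : Z, z = genericPoint Z := by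
        intro z
        have h3 := genericPoint_specializes z
        rw [specializes_iff_mem_closure, hη.closure_eq] at h3
        exact h3
      have hss : Subsingleton Z := ⟨fun a b => (hall a).trans (hall b).symm⟩
      have h4 : topologicalKrullDim Z ≤ 0 := by
        have : Subsingleton (IrreducibleCloseds Z) := by
          refine ⟨fun a b => ?_⟩
          ext1
          have ha : (a : Set Z) = Set.univ := by
            obtain ⟨x, hx⟩ := a.isIrreducible.nonempty
            exact Set.eq_univ_of_forall fun y => by rw [Subsingleton.elim y x]; exact hx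
          have hb : (b : Set Z) = Set.univ := by
            obtain ⟨x, hx⟩ := b.isIrreducible.nonempty
            exact Set.eq_univ_of_forall fun y => by rw [Subsingleton.elim y x]; exact hx
          rw [ha, hb]
        exact Order.krullDim_nonpos_of_subsingleton
      exact absurd (h2'.trans h4) (by norm_num)
    have hclF : IsClosed ({z₁, z₂} : Set Z) := by
      rw [Set.insert_eq]
      exact h₁.union h₂
    have hηF : genericPoint Z ∉ ({z₁, z₂} : Set Z) := by
      intro hmem
      rcases hmem with h3 | h3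
      · exact hη (h3 ▸ h₁)
      · exact hη ((show genericPoint Z = z₂ from h3) ▸ h₂)
    obtain ⟨Y, i, hi, hYc, hYd, hYF⟩ :=
      exists_section_through k q hZ h2' hA (n + 1) hd {z₁, z₂} hclF hηF
    obtain ⟨m, W, g, hg, hW, hWn, hWA, hWd, hWs⟩ :=
      Pi1.H386.ProperInduction.exists_cover k (i ≫ q)
    obtain ⟨y₁, hy₁⟩ := hYF (Set.mem_insert z₁ {z₂})
    obtain ⟨y₂, hy₂⟩ := hYF (Set.mem_insert_of_mem z₁ (Set.mem_singleton z₂))
    have hyc : ∀ y : Y, IsClosed ({i y} : Set Z) → IsClosed ({y} : Set Y) := by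
      intro y hy
      have h5 := hy.preimage i.continuous
      have h6 : i ⁻¹' {i y} = {y} := by
        ext w
        simp only [Set.mem_preimage, Set.mem_singleton_iff]
        exact i.isClosedEmbedding.injective.eq_iff
      rwa [h6] at h5
    have key := rel_of_cover k p (i ≫ q) (i ≫ h) m W g hWs (fun j w₁ w₂ hw₁ hw₂ => by
      have h7 := ih (g j ≫ i ≫ q) (hWn j) (hWA j) ((hWd j).trans (by
        rw [← ENat.WithBot.lt_add_one_iff]
        exact_mod_cast hYd)) (g j ≫ i ≫ h) (by rw [Category.assoc, Category.assoc, hh]) w₁ w₂ hw₁ hw₂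
      exact h7) y₁ y₂ (hyc y₁ (by rw [hy₁]; exact h₁)) (hyc y₂ (by rw [hy₂]; exact h₂))
    have h8 : (i ≫ h) y₁ = h z₁ := by rw [← hy₁]; rfl
    have h9 : (i ≫ h) y₂ = h z₂ := by rw [← hy₂]; rfl
    rwa [h8, h9] at key

/-- Any two closed points of a connected proper scheme over an algebraically closed field are
algebraically equivalent. -/
theorem rel [IsAlgClosed k] {X : Scheme.{u}} [DecidableEq ↥X] (p : X ⟶ Spec (CommRingCat.of k))
    [IsProper p] [ConnectedSpace X] (x y : X) (hx : IsClosed ({x} : Set X))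
    (hy : IsClosed ({y} : Set X)) : Rel p x y := by
  obtain ⟨m, W, g, hg, hW, hWn, hWA, hWd, hWs⟩ := Pi1.H386.ProperInduction.exists_cover k p
  refine rel_of_cover k p p (𝟙 X) m W g hWs (fun j w₁ w₂ hw₁ hw₂ => ?_) x y hx hy
  let _ : (W j).Over (Spec (CommRingCat.of k)) := ⟨g j ≫ p⟩
  have : LocallyOfFiniteType ((W j) ↘ Spec (CommRingCat.of k)) :=
    inferInstanceAs (LocallyOfFiniteType (g j ≫ p))
  exact rel_of_normal k p _ (g j ≫ p) (hWn j) (hWA j)
    (VarietyB.DimSch.topologicalKrullDim_eq_trd k (X := W j)).le (g j) rfl w₁ w₂ hw₁ hw₂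

end K824.AlgConn
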