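import Groth.Agent.AlgEqCyc.K824.MultOne

/-!
# Elementary algebraically trivial cycles from a morphism of a curve
-/

set_option autoImplicit false
universe u

open AlgebraicGeometry CategoryTheory CategoryTheory.Limits

namespace K824.AlgEqElem

variable {k : Type u} [Field k] {X C : Scheme.{u}} (p : X ⟶ Spec (CommRingCat.of k))
  (q : C ⟶ Spec (CommRingCat.of k))

/-- The family of cycles given by the graph of `ν : C ⟶ X`. -/
noncomputable def gr (ν : C ⟶ X) (hν : ν ≫ p = q) : C ⟶ pullback p q :=
  pullback.lift ν (𝟙 C) (by rw [hν, Category.id_comp])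

variable {p q}

theorem gr_snd (ν : C ⟶ X) (hν : ν ≫ p = q) : gr p q ν hν ≫ pullback.snd p q = 𝟙 C :=
  pullback.lift_snd _ _ _

theorem gr_fst (ν : C ⟶ X) (hν : ν ≫ p = q) : gr p q ν hν ≫ pullback.fst p q = ν :=
  pullback.lift_fst _ _ _

theorem fibreFun_single [IsIntegral C] [DecidableEq ↥(pullback p q)] (ν : C ⟶ X) (hν : ν ≫ p = q)
    (hcl : IsClosed (Set.range (gr p q ν hν))) (t : Spec (CommRingCat.of k) ⟶ C) (ht : t ≫ q = 𝟙 _)
    (x : X) [Decidable (x = ν (t (IsLocalRing.closedPoint k)))] :
    AlgEqCyc.fibreFun p q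
      (Function.locallyFinsuppWithin.single (gr p q ν hν (genericPoint C)) (1 : ℤ)) t ht x =
      if x = ν (t (IsLocalRing.closedPoint k)) then 1 else 0 := by
  set γ := gr p q ν hν with hγ
  set w₀ := γ (genericPoint C) with hw₀
  -- the slice
  have hs1 : AlgEqCyc.slice p q t ht ≫ pullback.fst p q = 𝟙 X := pullback.lift_fst _ _ _
  have hs2 : AlgEqCyc.slice p q t ht ≫ pullback.snd p q = p ≫ t := pullback.lift_snd _ _ _
  have hpt : ∀ z : ↥(Spec (CommRingCat.of k)), z = IsLocalRing.closedPoint k := by
    intro z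
    have : Subsingleton ↥(Spec (CommRingCat.of k)) :=
      inferInstanceAs (Subsingleton (PrimeSpectrum k))
    exact Subsingleton.elim _ _
  have hrange : closure {w₀} = Set.range γ := by
    apply le_antisymm
    · exact hcl.closure_subset_iff.2 (by rintro _ rfl; exact ⟨_, rfl⟩)
    · rintro _ ⟨c, rfl⟩
      have hη : genericPoint C ⤳ c := (genericPoint_spec C).specializes trivial
      exact (hη.map γ.continuous).mem_closure
  have hspec : (w₀ ⤳ AlgEqCyc.slice p q t ht x) ↔ x = ν (t (IsLocalRing.closedPoint k)) := by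
    rw [specializes_iff_mem_closure, hrange]
    constructor
    · rintro ⟨c, hc⟩
      have h1 : c = t (IsLocalRing.closedPoint k) := by
        have h2 : (pullback.snd p q) (γ c) = c := by
          have := congr($(gr_snd ν hν) c)
          exact this
        rw [← h2, hc]
        have h3 := congr($hs2 x)
        have h4 : (pullback.snd p q) (AlgEqCyc.slice p q t ht x) = t (p x) := h3
        rw [h4, hpt (p x)]
      have h5 : (pullback.fst p q) (γ c) = ν c := congr($(gr_fst ν hν) c)
      have h6 : (pullback.fst p q) (AlgEqCyc.slice p q t ht x) = x := congr($hs1 x)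
      rw [← h6, ← hc, h5, h1]
    · rintro rfl
      refine ⟨t (IsLocalRing.closedPoint k), ?_⟩
      have h7 : t ≫ γ = (t ≫ ν) ≫ AlgEqCyc.slice p q t ht := by
        apply pullback.hom_ext
        · rw [Category.assoc, gr_fst, Category.assoc, hs1, Category.comp_id]
        · rw [Category.assoc, gr_snd, Category.assoc, hs2, Category.comp_id, Category.assoc,
            ← Category.assoc ν, hν, ← Category.assoc, ht, Category.id_comp]
      exact congr($h7 (IsLocalRing.closedPoint k))
  unfold AlgEqCyc.fibreFun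
  by_cases hx : x = ν (t (IsLocalRing.closedPoint k))
  · rw [if_pos hx]
    have hsp := hspec.2 hx
    have hne : (Function.locallyFinsuppWithin.single w₀ (1 : ℤ) :
        AlgebraicCycle (pullback p q) ℤ) w₀ ≠ 0 := by
      rw [Function.locallyFinsuppWithin.single_apply, if_pos rfl]
      exact one_ne_zero
    rw [finsum_eq_single _ (⟨w₀, hne, hsp⟩ : {w : ↥(pullback p q) //
      (Function.locallyFinsuppWithin.single w₀ (1 : ℤ) : AlgebraicCycle (pullback p q) ℤ) w ≠ 0 ∧
        w ⤳ AlgEqCyc.slice p q t ht x})]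
    · have hv : AlgEqCyc.slice p q t ht x = γ (t (IsLocalRing.closedPoint k)) := by
        subst hx
        have h7 : t ≫ γ = (t ≫ ν) ≫ AlgEqCyc.slice p q t ht := by
          apply pullback.hom_ext
          · rw [Category.assoc, gr_fst, Category.assoc, hs1, Category.comp_id]
          · rw [Category.assoc, gr_snd, Category.assoc, hs2, Category.comp_id, Category.assoc,
              ← Category.assoc ν, hν, ← Category.assoc, ht, Category.id_comp]
        exact (congr($h7 (IsLocalRing.closedPoint k))).symm
      have h8 := K824.MultOne.fibreMult_eq_one (pullback.snd p q) γ (gr_snd ν hν)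
        (t (IsLocalRing.closedPoint k)) _ hv hsp
      have h10 : (Function.locallyFinsuppWithin.single w₀ (1 : ℤ) :
          AlgebraicCycle (pullback p q) ℤ) w₀ = 1 := by
        rw [Function.locallyFinsuppWithin.single_apply, if_pos rfl]
      have h11 : AlgEqCyc.fibreMult (pullback.snd p q) (AlgEqCyc.slice p q t ht x) w₀ hsp = 1 := h8
      change (Function.locallyFinsuppWithin.single w₀ (1 : ℤ) :
          AlgebraicCycle (pullback p q) ℤ) w₀ *
          ((AlgEqCyc.fibreMult (pullback.snd p q) (AlgEqCyc.slice p q t ht x) w₀ hsp : ℕ) : ℤ) = 1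
      rw [h11]
      simp only [h10, Nat.cast_one, mul_one]
    · rintro ⟨w, hw, hw'⟩ hne'
      exfalso
      apply hne'
      apply Subtype.ext
      by_contra hcon
      apply hw
      rw [Function.locallyFinsuppWithin.single_apply, if_neg hcon]
  · rw [if_neg hx]
    have hemp : ∀ w : {w : ↥(pullback p q) //
      (Function.locallyFinsuppWithin.single w₀ (1 : ℤ) : AlgebraicCycle (pullback p q) ℤ) w ≠ 0 ∧
        w ⤳ AlgEqCyc.slice p q t ht x}, False := by
      rintro ⟨w, hw, hw'⟩
      have h9 : w = w₀ := by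
        by_contra hcon
        apply hw
        rw [Function.locallyFinsuppWithin.single_apply, if_neg hcon]
      rw [h9] at hw'
      exact hx (hspec.1 hw')
    have : IsEmpty {w : ↥(pullback p q) //
      (Function.locallyFinsuppWithin.single w₀ (1 : ℤ) : AlgebraicCycle (pullback p q) ℤ) w ≠ 0 ∧
        w ⤳ AlgEqCyc.slice p q t ht x} := ⟨hemp⟩
    exact finsum_of_isEmpty _

theorem isElemAlgTriv [DecidableEq ↥X] (hs : Smooth q) (hp : Neron.IsProjectiveOver k (Over.mk q))
    (hi : IsIntegral C) (hd : topologicalKrullDim ↥C = 1) (ν : C ⟶ X) (hν : ν ≫ p = q)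
    (hcl : IsClosed (Set.range (gr p q ν hν)))
    (t₁ t₂ : Spec (CommRingCat.of k) ⟶ C) (h₁ : t₁ ≫ q = 𝟙 _) (h₂ : t₂ ≫ q = 𝟙 _)
    (x₁ x₂ : X) (hx₁ : ν (t₁ (IsLocalRing.closedPoint k)) = x₁)
    (hx₂ : ν (t₂ (IsLocalRing.closedPoint k)) = x₂) :
    AlgEqCyc.IsElemAlgTriv p
      (Function.locallyFinsuppWithin.single x₁ (1 : ℤ) -
        Function.locallyFinsuppWithin.single x₂ (1 : ℤ)) := by
  classical
  refine ⟨C, q, hs, hp, hi, hd,
    Function.locallyFinsuppWithin.single (gr p q ν hν (genericPoint C)) (1 : ℤ), ?_,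
    t₁, t₂, h₁, h₂, ?_⟩
  · intro w hw
    have h9 : w = gr p q ν hν (genericPoint C) := by
      by_contra hcon
      apply hw
      rw [Function.locallyFinsuppWithin.single_apply, if_neg hcon]
    have h2 : (pullback.snd p q) (gr p q ν hν (genericPoint C)) = genericPoint C :=
      congr($(gr_snd ν hν) (genericPoint C))
    rw [h9, h2]
    exact genericPoint_spec C
  · intro x
    rw [fibreFun_single ν hν hcl t₁ h₁ x, fibreFun_single ν hν hcl t₂ h₂ x, hx₁, hx₂]
    rw [Function.locallyFinsuppWithin.coe_sub, Pi.sub_apply,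
      Function.locallyFinsuppWithin.single_apply, Function.locallyFinsuppWithin.single_apply]

end K824.AlgEqElem
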