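import Groth.Prelude.Def_AlgEqCyc
import Mathlib.AlgebraicGeometry.FunctionField
import Mathlib.AlgebraicGeometry.Morphisms.Separated

/-!
# The family of cycles attached to a morphism from the parameter curve
-/

set_option autoImplicit false
universe u

open AlgebraicGeometry CategoryTheory CategoryTheory.Limits

namespace K824.MultOne

theorem length_quot {R A S : Type u} [CommRing R] [IsLocalRing R] [CommRing A] [IsLocalRing A]
    [CommRing S] [IsLocalRing S] (γ : R →+* A) [IsLocalHom γ] (g : S →+* R)
    [IsLocalHom g] (hsurj : Function.Surjective (γ.comp g)) (p : Ideal R)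
    (hp : p = RingHom.ker γ) :
    Module.length R ((R ⧸ p) ⧸
      (IsLocalRing.maximalIdeal S).map ((Ideal.Quotient.mk p).comp g)) = 1 := by
  rw [Module.length_eq_one_iff, isSimpleModule_iff_quot_maximal]
  refine ⟨IsLocalRing.maximalIdeal R, inferInstance, ?_⟩
  set I : Ideal (R ⧸ p) := (IsLocalRing.maximalIdeal S).map ((Ideal.Quotient.mk p).comp g) with hI
  let φ : R →ₗ[R] ((R ⧸ p) ⧸ I) :=
    { toFun := fun r => Ideal.Quotient.mk I (Ideal.Quotient.mk p r)
      map_add' := fun a b => by simp
      map_smul' := fun a b => by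
        simp only [smul_eq_mul, map_mul, RingHom.id_apply]
        rfl }
  have hφs : Function.Surjective φ := by
    intro y
    obtain ⟨y, rfl⟩ := Ideal.Quotient.mk_surjective y
    obtain ⟨y, rfl⟩ := Ideal.Quotient.mk_surjective y
    exact ⟨y, rfl⟩
  have hle : IsLocalRing.maximalIdeal R ≤ LinearMap.ker φ := by
    intro a ha
    obtain ⟨e, he⟩ := hsurj (γ a)
    have he' : e ∈ IsLocalRing.maximalIdeal S := by
      rw [IsLocalRing.mem_maximalIdeal, mem_nonunits_iff] at ha ⊢
      intro h
      apply ha
      have h1 : IsUnit (γ (g e)) := (h.map g).map γ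
      have h2 : γ (g e) = γ a := he
      rw [h2] at h1
      exact isUnit_of_map_unit γ a h1
    rw [LinearMap.mem_ker]
    change Ideal.Quotient.mk I (Ideal.Quotient.mk p a) = 0
    have h3 : Ideal.Quotient.mk p a = ((Ideal.Quotient.mk p).comp g) e := by
      rw [RingHom.comp_apply, Ideal.Quotient.eq, hp, RingHom.mem_ker, map_sub, sub_eq_zero]
      exact he.symm
    rw [h3, Ideal.Quotient.eq_zero_iff_mem]
    exact Ideal.mem_map_of_mem _ he'
  have hker : LinearMap.ker φ = IsLocalRing.maximalIdeal R := by
    refine ((IsLocalRing.maximalIdeal.isMaximal R).eq_of_le ?_ hle).symm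
    intro htop
    have h1 : (1 : R) ∈ LinearMap.ker φ := by rw [htop]; trivial
    rw [LinearMap.mem_ker] at h1
    change Ideal.Quotient.mk I (Ideal.Quotient.mk p 1) = 0 at h1
    rw [Ideal.Quotient.eq_zero_iff_mem] at h1
    -- the residue field of `A` kills `I`
    let ψ : (R ⧸ p) →+* IsLocalRing.ResidueField A :=
      Ideal.Quotient.lift p ((IsLocalRing.residue A).comp γ) (fun a ha => by
        rw [hp, RingHom.mem_ker] at ha
        rw [RingHom.comp_apply, ha, map_zero])
    have h2 : I ≤ RingHom.ker ψ := by
      rw [hI, Ideal.map_le_iff_le_comap]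
      intro a ha
      rw [Ideal.mem_comap, RingHom.mem_ker]
      change ψ (Ideal.Quotient.mk p (g a)) = 0
      change IsLocalRing.residue A (γ (g a)) = 0
      rw [IsLocalRing.residue_eq_zero_iff, IsLocalRing.mem_maximalIdeal, mem_nonunits_iff]
      intro h
      rw [IsLocalRing.mem_maximalIdeal, mem_nonunits_iff] at ha
      exact ha (isUnit_of_map_unit g a (isUnit_of_map_unit γ _ h))
    have h3 := h2 h1
    rw [RingHom.mem_ker, map_one, map_one] at h3
    exact one_ne_zero h3
  exact ⟨((Submodule.quotEquivOfEq _ _ hker.symm).trans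
    (φ.quotKerEquivOfSurjective hφs)).symm⟩

theorem ker_specMap {P C : Scheme.{u}} [IsIntegral C] (γ : C ⟶ P) (c : C)
    (h : γ (genericPoint C) ⤳ γ c) :
    RingHom.ker (Cyc.specMap (γ c) (γ (genericPoint C)) h) = RingHom.ker (γ.stalkMap c).hom := by
  have hη : genericPoint C ⤳ c := (genericPoint_spec C).specializes trivial
  have e : P.presheaf.stalkSpecializes h ≫ P.residue (γ (genericPoint C)) ≫
      γ.residueFieldMap (genericPoint C) =
      γ.stalkMap c ≫ C.presheaf.stalkSpecializes hη ≫ C.residue (genericPoint C) := by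
    rw [Scheme.residue_residueFieldMap, ← Category.assoc, ← Category.assoc]
    congr 1
    exact Scheme.Hom.stalkSpecializes_stalkMap γ (genericPoint C) c hη
  have h1 : Function.Injective (γ.residueFieldMap (genericPoint C)).hom := RingHom.injective _
  have h2 : Function.Injective (C.presheaf.stalkSpecializes hη ≫ C.residue (genericPoint C)).hom := by
    have h3 : Function.Injective (C.presheaf.stalkSpecializes hη).hom :=
      IsFractionRing.injective (C.presheaf.stalk c) C.functionField
    have hF : IsField (C.presheaf.stalk (genericPoint C)) := (inferInstance : Field C.functionField).toIsField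
    have h4 : Function.Injective (C.residue (genericPoint C)).hom := by
      let _ := hF.toField
      exact RingHom.injective _
    rw [CommRingCat.hom_comp, RingHom.coe_comp]
    exact h4.comp h3
  ext a
  rw [RingHom.mem_ker, RingHom.mem_ker]
  have e' := congr(($e).hom a)
  simp only [CommRingCat.hom_comp, RingHom.comp_apply] at e'
  constructor
  · intro ha
    have h5 : (P.residue (γ (genericPoint C))).hom ((P.presheaf.stalkSpecializes h).hom a) = 0 := ha
    rw [h5, map_zero] at e'
    apply h2
    rw [map_zero]
    exact e'.symm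
  · intro ha
    rw [ha, map_zero, map_zero] at e'
    apply h1
    rw [map_zero]
    exact e'

theorem fibreMult_eq_one {P C : Scheme.{u}} [IsIntegral C] (g : P ⟶ C) (γ : C ⟶ P)
    (hγ : γ ≫ g = 𝟙 C) (c : C) (v : P) (hv : v = γ c) (h : γ (genericPoint C) ⤳ v) :
    AlgEqCyc.fibreMult g v (γ (genericPoint C)) h = 1 := by
  subst hv
  have hiso : IsIso (γ ≫ g) := by rw [hγ]; infer_instance
  have hcomp : Function.Surjective ((γ.stalkMap c).hom.comp (g.stalkMap (γ c)).hom) := by
    have h1 : (g.stalkMap (γ c) ≫ γ.stalkMap c) = (γ ≫ g).stalkMap c :=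
      (Scheme.Hom.stalkMap_comp γ g c).symm
    rw [← CommRingCat.hom_comp, h1]
    exact (ConcreteCategory.bijective_of_isIso ((γ ≫ g).stalkMap c)).2
  unfold AlgEqCyc.fibreMult
  have key := length_quot (γ.stalkMap c).hom (g.stalkMap (γ c)).hom hcomp _ (ker_specMap γ c h)
  have h2 := congrArg ENat.toNat key
  exact h2

end K824.MultOne
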